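import Cfsg.Agent.Hall.ThreePrimes

set_option autoImplicit false

/-!
Three primes in the layers of a normal series are not pairwise non-adjacent in the prime graph.
-/

namespace CfsgLib.H29.PG

variable {G : Type*} [Group G] [Finite G]

theorem exists_orderOf_prime_mul {s t : ℕ} (hs : s.Prime) (ht : t.Prime) (hst : s ≠ t) {a b : G}
    (ha : ∃ i, orderOf a = s ^ i) (ha1 : a ≠ 1) (hb : ∃ j, orderOf b = t ^ j) (hb1 : b ≠ 1)
    (hab : a * b = b * a) : ∃ x : G, orderOf x = s * t := by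
  obtain ⟨i, hi⟩ := ha
  obtain ⟨j, hj⟩ := hb
  have hi0 : i ≠ 0 := fun h0 => ha1 (orderOf_eq_one_iff.mp (by rw [hi, h0, pow_zero]))
  have hj0 : j ≠ 0 := fun h0 => hb1 (orderOf_eq_one_iff.mp (by rw [hj, h0, pow_zero]))
  have hco : (orderOf a).Coprime (orderOf b) := by
    rw [hi, hj]; exact Nat.Coprime.pow _ _ ((Nat.coprime_primes hs ht).mpr hst)
  have hord : orderOf (a * b) = s ^ i * t ^ j := by
    rw [Commute.orderOf_mul_eq_mul_orderOf_of_coprime hab hco, hi, hj]
  have hd : s * t ∣ orderOf (a * b) := hord ▸ mul_dvd_mul (dvd_pow_self s hi0) (dvd_pow_self t hj0)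
  obtain ⟨k, hk⟩ := hd
  have h0 : 0 < orderOf (a * b) := orderOf_pos _
  refine ⟨(a * b) ^ k, ?_⟩
  rw [orderOf_pow_of_dvd (by rintro rfl; rw [mul_zero] at hk; omega) (Dvd.intro_left _ hk.symm), hk,
    Nat.mul_div_cancel _ (by rcases Nat.eq_zero_or_pos k with rfl | h; · rw [mul_zero] at hk; omega
                             · exact h)]

theorem exists_pow_of_mem {p : ℕ} [Fact p.Prime] {P : Subgroup G} (hP : IsPGroup p P) {a : G}
    (ha : a ∈ P) : ∃ i, orderOf a = p ^ i := by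
  obtain ⟨k, hk⟩ := IsPGroup.iff_orderOf.mp hP ⟨a, ha⟩
  exact ⟨k, by rw [← hk, Subgroup.orderOf_mk]⟩

/-- The centre of a subgroup, as a subgroup of the whole group. -/
def centre (P : Subgroup G) : Subgroup G := P ⊓ Subgroup.centralizer (P : Set G)

theorem centre_le (P : Subgroup G) : centre P ≤ P := inf_le_left

theorem centre_comm (P : Subgroup G) : IsMulCommutative (centre P) :=
  ⟨⟨fun a b => Subtype.ext ((Subgroup.mem_centralizer_iff.mp b.2.2 a a.2.1))⟩⟩

theorem centre_ne_bot {p : ℕ} [Fact p.Prime] {P : Subgroup G} (hP : IsPGroup p P) (hne : P ≠ ⊥) :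
    centre P ≠ ⊥ := by
  have : Nontrivial P := (Subgroup.nontrivial_iff_ne_bot P).mpr hne
  have := hP.center_nontrivial
  obtain ⟨⟨z, hz⟩, hz1⟩ := exists_ne (1 : Subgroup.center P)
  intro h
  apply hz1
  have hmem : (z : G) ∈ centre P := ⟨z.2, Subgroup.mem_centralizer_iff.mpr fun a ha =>
    congrArg Subtype.val (Subgroup.mem_center_iff.mp hz ⟨a, ha⟩)⟩
  rw [h, Subgroup.mem_bot] at hmem
  exact Subtype.ext (Subtype.ext hmem)

theorem normalizer_le_centre (P : Subgroup G) :
    Subgroup.normalizer (P : Set G) ≤ Subgroup.normalizer (centre P : Set G) := by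
  have key : ∀ g ∈ Subgroup.normalizer (P : Set G), ∀ v ∈ centre P, g * v * g⁻¹ ∈ centre P := by
    intro g hg v hv
    refine ⟨(Subgroup.mem_normalizer_iff.mp hg v).mp hv.1, Subgroup.mem_centralizer_iff.mpr fun a ha => ?_⟩
    have ha' : g⁻¹ * a * g⁻¹⁻¹ ∈ P :=
      (Subgroup.mem_normalizer_iff.mp (Subgroup.inv_mem _ hg) a).mp ha
    have h := Subgroup.mem_centralizer_iff.mp hv.2 _ ha'
    have := congrArg (fun x => g * x * g⁻¹) h
    simpa [mul_assoc] using this
  intro g hg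
  refine Subgroup.mem_normalizer_iff.mpr fun v => ⟨key g hg v, fun h => ?_⟩
  have := key g⁻¹ (Subgroup.inv_mem _ hg) _ h
  simpa [mul_assoc] using this

/-- Gruenberg-Kegel: primes from three layers of a normal series are not all non-adjacent. -/
theorem triangle (K M : Subgroup G) [K.Normal] [M.Normal] (hKM : K ≤ M)
    (p q r : ℕ) (hp : p.Prime) (hq : q.Prime) (hr : r.Prime) (hpq : p ≠ q) (hpr : p ≠ r)
    (hqr : q ≠ r) (hpK : p ∣ Nat.card K) (hqM : q ∣ Nat.card M / Nat.card K)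
    (hrG : r ∣ Nat.card G / Nat.card M) :
    (∃ x : G, orderOf x = p * q) ∨ (∃ x : G, orderOf x = p * r) ∨ (∃ x : G, orderOf x = q * r) := by
  classical
  by_contra hcon
  push Not at hcon
  obtain ⟨npq, npr, nqr⟩ := hcon
  have := Fact.mk hp
  have := Fact.mk hq
  have := Fact.mk hr
  let P : Sylow p K := default
  set P' : Subgroup G := (P : Subgroup K).map K.subtype with hP'
  set N := Subgroup.normalizer (P' : Set G) with hN
  have hfrat : N ⊔ K = ⊤ := P.normalizer_sup_eq_top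
  have hP'p : IsPGroup p P' := P.isPGroup'.map K.subtype
  have hP'ne : P' ≠ ⊥ := by
    rw [hP', Ne, Subgroup.map_eq_bot_iff_of_injective _ K.subtype_injective]
    exact P.ne_bot_of_dvd_card hpK
  -- the middle layer inside the normaliser
  have hq' : q ∣ Nat.card ↥(M.subgroupOf N) := by
    have hM : M = (M ⊓ N) ⊔ K := by
      refine le_antisymm (fun m hm => ?_) (sup_le inf_le_left hKM)
      have hmem : m ∈ N ⊔ K := hfrat.symm ▸ Subgroup.mem_top m
      obtain ⟨n, hn, k, hk, rfl⟩ := Subgroup.mem_sup_of_normal_right.mp hmem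
      exact Subgroup.mem_sup_of_normal_right.mpr
        ⟨n, ⟨by simpa using M.mul_mem hm (M.inv_mem (hKM hk)), hn⟩, k, hk, rfl⟩
    have h1 : K.relIndex M = K.relIndex (M ⊓ N) := by
      conv_lhs => rw [hM, Subgroup.relIndex_sup_right]
    have h2 : Nat.card M / Nat.card K = K.relIndex M := by
      have := (K.subgroupOf M).card_mul_index
      rw [Nat.card_congr (Subgroup.subgroupOfEquivOfLe hKM).toEquiv] at this
      rw [← this, Nat.mul_div_cancel_left _ Nat.card_pos]
      rfl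
    rw [Subgroup.inf_subgroupOf_right M N |>.symm,
      Nat.card_congr (Subgroup.subgroupOfEquivOfLe inf_le_right).toEquiv]
    exact (hqM.trans (dvd_of_eq (h2.trans h1))).trans (Subgroup.index_dvd_card _)
  have hMtop : M ⊔ N = ⊤ := by
    rw [eq_top_iff, ← hfrat, sup_comm M N]; exact sup_le_sup_left hKM N
  have hidx : r ∣ (M.subgroupOf N).index := by
    have : (M.subgroupOf N).index = M.index := by
      rw [← Subgroup.relIndex_top_right M, ← hMtop, sup_comm, Subgroup.relIndex_sup_right]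
      rfl
    rw [this]
    have h := M.card_mul_index
    rwa [← h, Nat.mul_div_cancel_left _ Nat.card_pos] at hrG
  let Q : Sylow q ↥(M.subgroupOf N) := default
  set Q' : Subgroup N := (Q : Subgroup ↥(M.subgroupOf N)).map (M.subgroupOf N).subtype with hQ'
  set NQ := Subgroup.normalizer (Q' : Set N) with hNQ
  have hfrat2 : NQ ⊔ M.subgroupOf N = ⊤ := Q.normalizer_sup_eq_top
  have hr' : r ∣ Nat.card NQ := by
    rw [← Subgroup.relIndex_top_right (M.subgroupOf N), ← hfrat2, Subgroup.relIndex_sup_right] at hidx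
    exact hidx.trans (Subgroup.index_dvd_card _)
  obtain ⟨z, hz⟩ := exists_prime_orderOf_dvd_card' r hr'
  set Q'' : Subgroup G := Q'.map N.subtype with hQ''
  have hQ''p : IsPGroup q Q'' := (Q.isPGroup'.map _).map _
  have hQ''ne : Q'' ≠ ⊥ := by
    rw [hQ'', Ne, Subgroup.map_eq_bot_iff_of_injective _ N.subtype_injective, hQ',
      Subgroup.map_eq_bot_iff_of_injective _ (Subgroup.subtype_injective _)]
    exact Q.ne_bot_of_dvd_card hq'
  set x : G := ((z : N) : G) with hx
  have hxo : orderOf x = r := by rw [hx, Subgroup.orderOf_coe, Subgroup.orderOf_coe, hz]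
  have hxQ : x ∈ Subgroup.normalizer (Q'' : Set G) := by
    have := Subgroup.le_normalizer_map N.subtype (Subgroup.mem_map_of_mem N.subtype z.2)
    exact this
  have hQN : centre Q'' ≤ N := by
    refine (centre_le _).trans ?_
    rintro _ ⟨y, -, rfl⟩
    exact y.2
  have hx1 : x ≠ 1 := fun h => by rw [h, orderOf_one] at hxo; exact hr.ne_one hxo.symm
  have := centre_comm P'
  obtain ⟨v, hv, hv1⟩ := (centre P').bot_or_exists_ne_one.resolve_left (centre_ne_bot hP'p hP'ne)
  obtain ⟨i, hi⟩ := exists_pow_of_mem hP'p hv.1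
  have hpow := CfsgLib.Hall.pow_card_eq_one_of_frobenius_action (centre P') (centre Q'') x r hr
    (by rw [← hxo, pow_orderOf_eq_one]) hx1
    (fun a ha => normalizer_le_centre P' (hQN ha)) (normalizer_le_centre P' (z : N).2)
    (normalizer_le_centre Q'' hxQ) (centre_ne_bot hQ''p hQ''ne)
    (fun w hw a ha ha1 hc => by
      by_contra hw1
      obtain ⟨y, hy⟩ := exists_orderOf_prime_mul hp hq hpq (exists_pow_of_mem hP'p hw.1) hw1
        (exists_pow_of_mem hQ''p ha.1) ha1 hc.symm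
      exact npq y hy)
    (fun w hw a ha hc => by
      by_contra hw1
      obtain ⟨y, hy⟩ := exists_orderOf_prime_mul hp hr hpr (exists_pow_of_mem hP'p hw.1) hw1
        ⟨1, by rw [pow_one, ← hxo]; exact (MulAut.conj a).orderOf_eq x⟩
        (fun h => hx1 (conj_eq_one_iff.mp h)) hc.symm
      exact npr y hy)
    (fun a ha j hj0 hjr hc => by
      by_contra ha1
      obtain ⟨y, hy⟩ := exists_orderOf_prime_mul hq hr hqr (exists_pow_of_mem hQ''p ha.1) ha1
        (b := x ^ j) ⟨1, by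
          have hco : (orderOf x).Coprime j := by
            rw [hxo]; exact (hr.coprime_iff_not_dvd).mpr (Nat.not_dvd_of_pos_of_lt hj0 hjr)
          rw [hco.orderOf_pow, hxo, pow_one]⟩
        (fun h => by
          have := orderOf_dvd_of_pow_eq_one h
          rw [hxo] at this
          exact Nat.not_dvd_of_pos_of_lt hj0 hjr this) hc
      exact nqr y hy) v hv
  obtain ⟨e, he⟩ := (hQ''p.to_le (centre_le Q'')).exists_card_eq
  rw [he] at hpow
  exact hv1 (orderOf_eq_one_iff.mp (Nat.eq_one_of_dvd_coprimes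
    (Nat.Coprime.pow i e ((Nat.coprime_primes hp hq).mpr hpq)) hi.dvd
    (orderOf_dvd_of_pow_eq_one hpow)))

/-- Three pairwise non-adjacent primes: a solvable normal subgroup meets at most one of them. -/
theorem at_most_one (ρ : Finset ℕ) (hρ : 3 ≤ ρ.card) (hpr : ∀ r ∈ ρ, r.Prime ∧ r ∣ Nat.card G)
    (hna : ∀ r ∈ ρ, ∀ s ∈ ρ, r ≠ s → ¬ ∃ x : G, orderOf x = r * s)
    (K : Subgroup G) [K.Normal] [Group.IsSolvable K]
    {r s : ℕ} (hr : r ∈ ρ) (hs : s ∈ ρ) (hrK : r ∣ Nat.card K) (hsK : s ∣ Nat.card K) : r = s := by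
  classical
  by_contra hne
  -- minimal normal subgroup below `K` meeting two of the primes
  have hfin : {M : Subgroup G | M.Normal ∧ M ≤ K ∧
      ∃ u ∈ ρ, ∃ w ∈ ρ, u ≠ w ∧ u ∣ Nat.card M ∧ w ∣ Nat.card M}.Finite := Set.toFinite _
  obtain ⟨M, hM⟩ := hfin.exists_minimal
    ⟨K, inferInstance, le_rfl, r, hr, s, hs, hne, hrK, hsK⟩
  obtain ⟨hMn, hMK, u₀, hu₀, w₀, hw₀, huw₀, hu₀M, hw₀M⟩ := hM.prop
  -- a maximal normal subgroup strictly below `M`
  have hMne : M ≠ ⊥ := fun h => by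
    rw [h, Subgroup.card_bot, Nat.dvd_one] at hu₀M
    exact (hpr u₀ hu₀).1.ne_one hu₀M
  obtain ⟨K₀, -, hK₀⟩ := (Set.toFinite {L : Subgroup G | L.Normal ∧ L < M}).exists_le_maximal
    (a := ⊥) ⟨inferInstance, bot_lt_iff_ne_bot.mpr hMne⟩
  obtain ⟨hK₀n, hK₀M⟩ := hK₀.prop
  set π := QuotientGroup.mk' K₀ with hπ
  have hmn : CfsgLib.Hall.IsMinNormal (M.map π) := by
    refine ⟨hMn.map π (QuotientGroup.mk'_surjective _), fun h => ?_, fun L hL hLM => ?_⟩
    · rw [Subgroup.map_eq_bot_iff, QuotientGroup.ker_mk'] at h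
      exact hK₀M.not_ge h
    · have h1 : L.comap π ≤ M := by
        refine le_trans (Subgroup.comap_mono hLM) ?_
        rw [Subgroup.comap_map_eq, QuotientGroup.ker_mk', sup_eq_left.mpr hK₀M.le]
      have h0 : K₀ ≤ L.comap π := by
        exact (QuotientGroup.ker_mk' K₀).ge.trans (MonoidHom.ker_le_comap _ _)
      rcases eq_or_lt_of_le h1 with h | h
      · exact Or.inr (by rw [← h, Subgroup.map_comap_eq_self_of_surjective (QuotientGroup.mk'_surjective _)])
      · left
        have hle : L.comap π ≤ K₀ := hK₀.2 ⟨hL.comap π, h⟩ h0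
        rw [← Subgroup.map_comap_eq_self_of_surjective (QuotientGroup.mk'_surjective K₀) L,
          Subgroup.map_eq_bot_iff, QuotientGroup.ker_mk']
        exact hle
  have hsolM : Group.IsSolvable M :=
    Group.isSolvable_of_isSolvable_injective (Subgroup.inclusion_injective hMK)
  have : Group.IsSolvable (M.map π) :=
    Group.isSolvable_of_surjective (π.subgroupMap_surjective M)
  obtain ⟨w, hw, -, hwp, -⟩ := hmn.elementaryAbelian
  have := Fact.mk hw
  obtain ⟨e, he⟩ := hwp.exists_card_eq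
  -- card M = card K₀ * card (M.map π)
  have hcard : Nat.card M = Nat.card K₀ * w ^ e := by
    have h1 := (K₀.subgroupOf M).card_mul_index
    rw [Nat.card_congr (Subgroup.subgroupOfEquivOfLe hK₀M.le).toEquiv] at h1
    rw [← h1, ← he]
    congr 1
    rw [← Subgroup.relIndex]
    exact (congrArg (fun L => L.relIndex M) (QuotientGroup.ker_mk' K₀)).symm.trans (Subgroup.relIndex_ker M π)
  have hsplit : ∀ u ∈ ρ, u ∣ Nat.card M → u ∣ Nat.card K₀ ∨ u = w := fun u hu hd => by
    rw [hcard] at hd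
    exact (hpr u hu).1.dvd_mul.mp hd |>.imp_right fun h =>
      (Nat.prime_dvd_prime_iff_eq (hpr u hu).1 hw).mp ((hpr u hu).1.dvd_of_dvd_pow h)
  have hK₀1 : ∀ u ∈ ρ, ∀ u' ∈ ρ, u ∣ Nat.card K₀ → u' ∣ Nat.card K₀ → u = u' := fun u hu u' hu' h h' => by
    by_contra hc
    exact hK₀M.not_ge (hM.2 ⟨hK₀n, hK₀M.le.trans hMK, u, hu, u', hu', hc, h, h'⟩ hK₀M.le)
  obtain ⟨u, hu, huK, hwρ⟩ : ∃ u ∈ ρ, u ∣ Nat.card K₀ ∧ (w ∈ ρ ∧ u ≠ w ∧ e ≠ 0) := by
    have he0 : e ≠ 0 := fun h => by
      rw [h, pow_zero, mul_one] at hcard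
      exact hK₀M.ne (Subgroup.eq_of_le_of_card_ge hK₀M.le hcard.le)
    rcases hsplit u₀ hu₀ hu₀M with h | h <;> rcases hsplit w₀ hw₀ hw₀M with h' | h'
    · exact absurd (hK₀1 u₀ hu₀ w₀ hw₀ h h') huw₀
    · exact ⟨u₀, hu₀, h, h' ▸ hw₀, fun hc => huw₀ (hc.trans h'.symm), he0⟩
    · exact ⟨w₀, hw₀, h', h ▸ hu₀, fun hc => huw₀ (h.trans hc.symm), he0⟩
    · exact absurd (h.trans h'.symm) huw₀
  obtain ⟨hwρ, huw, he0⟩ := hwρ
  obtain ⟨v, hv, hvu, hvw⟩ : ∃ v ∈ ρ, v ≠ u ∧ v ≠ w := by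
    obtain ⟨v, hv⟩ := Finset.card_pos.mp (show 0 < ((ρ.erase u).erase w).card by
      rw [Finset.card_erase_of_mem (Finset.mem_erase.mpr ⟨huw.symm, hwρ⟩),
        Finset.card_erase_of_mem hu]
      omega)
    simp only [Finset.mem_erase] at hv
    exact ⟨v, hv.2.2, hv.2.1, hv.1⟩
  have hvG : v ∣ Nat.card G / Nat.card M := by
    have h := M.card_mul_index
    rw [← h, Nat.mul_div_cancel_left _ Nat.card_pos]
    have hd := (hpr v hv).2
    rw [← h] at hd
    refine ((hpr v hv).1.dvd_mul.mp hd).resolve_left fun hd' => ?_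
    rcases hsplit v hv hd' with h' | h'
    · exact hvu (hK₀1 v hv u hu h' huK)
    · exact hvw h'
  have hwM : w ∣ Nat.card M / Nat.card K₀ := by
    rw [hcard, Nat.mul_div_cancel_left _ Nat.card_pos]; exact dvd_pow_self w he0
  rcases triangle K₀ M hK₀M.le u w v (hpr u hu).1 hw (hpr v hv).1 huw hvu.symm hvw.symm huK hwM hvG with
    h | h | h
  · exact hna u hu w hwρ huw h
  · exact hna u hu v hv hvu.symm h
  · exact hna w hwρ v hv hvw.symm h

end CfsgLib.H29.PG
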